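import Groth.Agent.BunMod.K139.PushMul
import Groth.Agent.BunMod.K596.RowGG
import Groth.Agent.BunMod.K596.JB
import Groth.Agent.BunMod.K524.MulSurj
import Groth.Agent.BunMod.K527.SymTheta

/-!
# Multiplication maps on `M` from the structure theorem (node F7: rows S16936, S16937)

* `it0_zpow`: `E ⊗ L^a` has index zero for `m + r a ≥ 1`.
* `mulSurj_left` (S16936): `H^0(M, Θ^m) ⊗ H^0(M, dm^* L^n) → H^0(M, Θ^m ⊗ dm^* L^n)` is onto.
* `mulSurj_sq` (S16937): `H^0(M, Θ^m) ⊗ H^0(M, Θ^m) → H^0(M, Θ^m ⊗ Θ^m)` is onto if the corresponding maps on `J`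
  (for `dm_* Θ^m`) and on `M₀` (for `A^m`) are onto.
-/

set_option autoImplicit false
universe u
open CategoryTheory CategoryTheory.Limits AlgebraicGeometry MonoidalCategory CartesianMonoidalCategory
open Groth.Agent Groth.Agent.BunMod.K596 Groth.Agent.Grpsch.PicGrp Groth.Agent.Fdesc.LocGen K506.Transl
open scoped MonObj

namespace K139.F7

variable {k : Type u} [Field k] [IsAlgClosed k] [CharZero k] {g : ℕ} {J : Over (Spec (CommRingCat.of k))} [GrpObj J]
  {L : J.left.Modules} {M : Over (Spec (CommRingCat.of k))} {dm : M ⟶ J} {Θ : M.left.Modules} {r : ℕ}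

omit [IsAlgClosed k] [CharZero k] [GrpObj J] in
theorem it0_congr {E E' : J.left.Modules} (e : E ≅ E') (h : IT0 J E) : IT0 J E' := fun α hα h0 i hi =>
  CohqB.LocBaseHH.subsingleton_of_iso (Ega2.Tens.mapTIso e (Iso.refl α)) i (h α hα h0 i hi)

/-- `E ⊗ L^a` has index zero for `m + r a ≥ 1`. -/
theorem it0_zpow (hJ : PPAV g J L) {m v : ℕ} (hr : 1 ≤ r) (hmr : r ≤ m) {E : J.left.Modules}
    (hE : VerD J L r m v E) {Q : J.left.Modules} (hQ : PicF.IsInvertible Q) (a : ℤ)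
    (hQa : mk Q hQ = (mk L hJ.inv) ^ a) (ha : 1 ≤ (m : ℤ) + r * a) : IT0 J (CohB1.tensorMod E Q) := by
  obtain ⟨L', hL', hLL⟩ := RowGG.exists_inverse hJ.inv
  have hP : PicF.IsInvertible (CohB1.tensorMod Q L) := isInvertible_tensorMod hQ hJ.inv
  have h3 : mk L hJ.inv * mk L' hL' = 1 := by
    rw [mk_mul_mk, one_def, mk_eq_iff]
    exact hLL
  have hvan : IT0 J (CohB1.tensorMod (CohB1.tensorPow L (m * r - r ^ 2))
      (CohB1.tensorPow (CohB1.tensorMod Q L) (r ^ 2))) := by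
    have hV : PicF.IsInvertible (CohB1.tensorMod (CohB1.tensorPow L (m * r - r ^ 2))
      (CohB1.tensorPow (CohB1.tensorMod Q L) (r ^ 2))) :=
      isInvertible_tensorMod (isInvertible_tensorPow hJ.inv _) (isInvertible_tensorPow hP _)
    obtain ⟨n, hn⟩ : ∃ n : ℕ, (n : ℤ) = r * (m + r * a) := by
      refine ⟨(r * (m + r * a) : ℤ).toNat, Int.toNat_of_nonneg ?_⟩
      positivity
    have hn1 : 1 ≤ n := by
      have h1 : (1 : ℤ) ≤ r := by exact_mod_cast hr
      have h2 : (1 : ℤ) ≤ r * (m + r * a) := by nlinarith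
      rw [← hn] at h2
      exact_mod_cast h2
    have he : Nonempty (CohB1.tensorPow L n ≅ CohB1.tensorMod (CohB1.tensorPow L (m * r - r ^ 2))
        (CohB1.tensorPow (CohB1.tensorMod Q L) (r ^ 2))) := by
      rw [← mk_eq_iff (isInvertible_tensorPow hJ.inv _) hV,
        ← mk_mul_mk (isInvertible_tensorPow hJ.inv _) (isInvertible_tensorPow hP _),
        mk_tensorPow hJ.inv, mk_tensorPow hJ.inv, mk_tensorPow hP, ← mk_mul_mk hQ hJ.inv, hQa]
      generalize mk L hJ.inv = c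
      have hle : r ^ 2 ≤ m * r := by
        rw [sq]
        exact Nat.mul_le_mul_right r hmr
      rw [← zpow_add_one, ← zpow_natCast, ← zpow_natCast, ← zpow_natCast, ← zpow_mul, ← zpow_add]
      congr 1
      push_cast [Nat.cast_sub hle]
      rw [hn]
      ring
    obtain ⟨e⟩ := he
    exact K231.AvPic.it0_of_ample hJ _ (RowGG.isAmple_congr e (K231.Mul.isAmple_pow hJ hn1))
  have h1 := RowGG.it0_twist hJ hr hmr hE (CohB1.tensorMod Q L) hP L' hL' hLL hvan
  have h4 : Nonempty (CohB1.tensorMod (CohB1.tensorMod Q L) L' ≅ Q) := by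
    rw [← mk_eq_iff (isInvertible_tensorMod hP hL') hQ, ← mk_mul_mk hP hL', ← mk_mul_mk hQ hJ.inv,
      _root_.mul_assoc, h3, _root_.mul_one]
  obtain ⟨e4⟩ := h4
  exact it0_congr (Ega2.Tens.mapTIso (Iso.refl E) e4) h1

/-- **The multiplication map `H^0(L^n) ⊗ H^0(E) → H^0(L^n ⊗ E)` on `J`**, from the criterion quoted in S16936. -/
theorem mulSurj_J (hJ : PPAV g J L) {m v : ℕ} (hr : 1 ≤ r) (hm : 2 * r + 1 ≤ m) {E : J.left.Modules}
    (hE : VerD J L r m v E)
    (hB4 : ∀ (E : J.left.Modules), FlatMod.IsFinLocFree E → ∀ (L Linv : J.left.Modules), CohB1.IsAmple L →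
      Nonempty (CohB1.tensorMod L Linv ≅ Coh.structureModule J.left) → ∀ n : ℕ, 2 ≤ n →
      (∀ (α : J.left.Modules), PicF.IsInvertible α → @Pic13.IsAlgEquivZero k _ J.left ⟨J.hom⟩ α → ∀ i : ℕ, 0 < i →
        (∀ l : ℕ, Subsingleton (Coh.HH J.left (CohB1.tensorMod (CohB1.tensorMod E (CohB1.tensorPow L l)) α) i)) ∧
        Subsingleton (Coh.HH J.left (CohB1.tensorMod (CohB1.tensorMod E Linv) α) i) ∧
        Subsingleton (Coh.HH J.left (CohB1.tensorMod (CohB1.tensorMod E (CohB1.tensorPow Linv 2)) α) i)) →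
      Function.Surjective ((toSheafify (Opens.grothendieckTopology J.left)
        (CohB1.tensorPre (CohB1.tensorPow L n) E).presheaf).app (Opposite.op ⊤)))
    (n : ℕ) (hn : 2 ≤ n) : K800.MulMap.MulSurj (CohB1.tensorPow L n) E := by
  rw [K800.MulMap.mulSurj_iff]
  obtain ⟨L', hL', hLL⟩ := RowGG.exists_inverse hJ.inv
  have h3 : mk L hJ.inv * mk L' hL' = 1 := by
    rw [mk_mul_mk, one_def, mk_eq_iff]
    exact hLL
  have h4 : mk L' hL' = (mk L hJ.inv) ^ (-1 : ℤ) := by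
    rw [zpow_neg, zpow_one]
    exact (inv_eq_of_mul_eq_one_right h3).symm
  have hrm : (1 : ℤ) ≤ (m : ℤ) - 2 * r := by
    have : (2 * r + 1 : ℤ) ≤ m := by exact_mod_cast hm
    linarith
  have hr0 : (0 : ℤ) ≤ r := by positivity
  refine hB4 E hE.locFree L L' hJ.ample hLL n hn fun α hα h0 i hi => ⟨fun l => ?_, ?_, ?_⟩
  · refine it0_zpow hJ hr (by omega) hE (isInvertible_tensorPow hJ.inv l) (l : ℤ) ?_ ?_ α hα h0 i hi
    · rw [mk_tensorPow hJ.inv, zpow_natCast]
    · have : (0 : ℤ) ≤ r * l := by positivity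
      linarith
  · refine it0_zpow hJ hr (by omega) hE hL' (-1) h4 ?_ α hα h0 i hi
    linarith
  · refine it0_zpow hJ hr (by omega) hE (isInvertible_tensorPow hL' 2) (-2) ?_ ?_ α hα h0 i hi
    · rw [mk_tensorPow hL', h4, ← zpow_natCast, ← zpow_mul]
      norm_num
    · linarith

/-- **S16936 from the structure theorem.** -/
theorem mulSurj_left (hJ : PPAV g J L) (hΘ : PicF.IsInvertible Θ) {m : ℕ} (hr : 1 ≤ r) (hm : 2 * r + 1 ≤ m)
    (S : Str r dm Θ L)
    (hB4 : ∀ (E : J.left.Modules), FlatMod.IsFinLocFree E → ∀ (L Linv : J.left.Modules), CohB1.IsAmple L →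
      Nonempty (CohB1.tensorMod L Linv ≅ Coh.structureModule J.left) → ∀ n : ℕ, 2 ≤ n →
      (∀ (α : J.left.Modules), PicF.IsInvertible α → @Pic13.IsAlgEquivZero k _ J.left ⟨J.hom⟩ α → ∀ i : ℕ, 0 < i →
        (∀ l : ℕ, Subsingleton (Coh.HH J.left (CohB1.tensorMod (CohB1.tensorMod E (CohB1.tensorPow L l)) α) i)) ∧
        Subsingleton (Coh.HH J.left (CohB1.tensorMod (CohB1.tensorMod E Linv) α) i) ∧
        Subsingleton (Coh.HH J.left (CohB1.tensorMod (CohB1.tensorMod E (CohB1.tensorPow Linv 2)) α) i)) →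
      Function.Surjective ((toSheafify (Opens.grothendieckTopology J.left)
        (CohB1.tensorPre (CohB1.tensorPow L n) E).presheaf).app (Opposite.op ⊤)))
    (n : ℕ) (hn : 2 ≤ n) :
    K800.MulMap.MulSurj (CohB1.tensorPow Θ m) ((Scheme.Modules.pullback dm.left).obj (CohB1.tensorPow L n)) := by
  have hE := F1.verD_of_str hJ hΘ hr S m
  have h1 := mulSurj_J hJ hr hm hE hB4 n hn
  exact (PushMul.mulSurj_pull dm.left (StrVer.hasBases (isInvertible_tensorPow hJ.inv n)) h1).swap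

section Square

omit [IsAlgClosed k] in
/-- **S16937 from the structure theorem.** -/
theorem mulSurj_sq (hJ : PPAV g J L) (hΘ : PicF.IsInvertible Θ) (hr : 1 ≤ r) (S : Str r dm Θ L) (m : ℕ)
    (hmJ : K800.MulMap.MulSurj ((Scheme.Modules.pushforward dm.left).obj (CohB1.tensorPow Θ m))
      ((Scheme.Modules.pushforward dm.left).obj (CohB1.tensorPow Θ m)))
    (hA : K800.MulMap.MulSurj (CohB1.tensorPow S.A m) (CohB1.tensorPow S.A m)) :
    K800.MulMap.MulSurj (CohB1.tensorPow Θ m) (CohB1.tensorPow Θ m) := by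
  have i1 := hJ.proper
  have i2 := hJ.gint
  have i3 := S.proper
  have i4 := F1.isProper_dm hJ hr S
  have i5 := F1.flat_pow hJ hr
  have i6 : IsProper S.M₀.hom := S.proper
  have hN : IsLocallyNoetherian S.M₀.left := LocallyOfFiniteType.isLocallyNoetherian S.M₀.hom
  have hE := F1.verD_of_str hJ hΘ hr S m
  have hE2 := F1.verD_of_str hJ hΘ hr S (m + m)
  have hΘm : PicF.IsInvertible (CohB1.tensorPow Θ m) := isInvertible_tensorPow hΘ m
  have hΘΘ : PicF.IsInvertible (CohB1.tensorMod (CohB1.tensorPow Θ m) (CohB1.tensorPow Θ m)) :=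
    isInvertible_tensorMod hΘm hΘm
  have hAm : PicF.IsInvertible (CohB1.tensorPow S.A m) := isInvertible_tensorPow S.inv m
  have hLr : PicF.IsInvertible (CohB1.tensorPow L (r * m)) := isInvertible_tensorPow hJ.inv _
  -- the square and the product
  have hsq := StrVer.sq_left S
  have hpr := StrVer.prod_left S
  obtain ⟨e⟩ := Comp.nonempty_pow_box _ _ S.iso m
  let eq : (Scheme.Modules.pullback S.q.left).obj (CohB1.tensorPow Θ m) ≅
      CohB1.tensorMod ((Scheme.Modules.pullback (fst S.M₀ J).left).obj (CohB1.tensorPow S.A m))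
        ((Scheme.Modules.pullback (snd S.M₀ J).left).obj (CohB1.tensorPow L (r * m))) :=
    Comp.pullTPow S.q.left Θ m ≪≫ e
  have hbE := VarietyB.TensCoh.HasBases.of_isFinLocFree hE.locFree
  have hbEE : VarietyB.TensCoh.HasBases (CohB1.tensorMod
      ((Scheme.Modules.pushforward dm.left).obj (CohB1.tensorPow Θ m))
      ((Scheme.Modules.pushforward dm.left).obj (CohB1.tensorPow Θ m))) :=
    VarietyB.TensCoh.HasBases.of_isFinLocFree (Sga67.LocBasis.isFinLocFree_tensorMod hE.locFree hE.locFree)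
  have hbE2 : VarietyB.TensCoh.HasBases ((Scheme.Modules.pushforward dm.left).obj
      (CohB1.tensorMod (CohB1.tensorPow Θ m) (CohB1.tensorPow Θ m))) := by
    refine VarietyB.TensCoh.HasBases.of_isFinLocFree (PerfA.PerfLocal.isFinLocFree_of_iso ?_ hE2.locFree)
    exact (Scheme.Modules.pushforward dm.left).mapIso (Ega2.TensPow.powAdd Θ m m).symm
  -- the splitting of `O ⟶ [r]_* O`
  obtain ⟨⟨τ, hτ⟩⟩ := K231.Mul.isSplitMono J r hr
  have hτ1 : IsUnit (show Γ(J.left, ⊤) from τ.app ⊤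
      (show Γ((Scheme.Modules.pushforward ((𝟙 J) ^ r : J ⟶ J).left).obj (Coh.structureModule J.left), ⊤) from
        Ega2.Tens.sm (1 : Γ(J.left, ⊤)))) := by
    have h1 : (show Γ(J.left, ⊤) from τ.app ⊤
      (show Γ((Scheme.Modules.pushforward ((𝟙 J) ^ r : J ⟶ J).left).obj (Coh.structureModule J.left), ⊤) from
        Ega2.Tens.sm (1 : Γ(J.left, ⊤)))) = 1 := by
      have h2 := congr($(congrArg (fun z => Scheme.Modules.Hom.app z ⊤) hτ) (Ega2.Tens.sm (1 : Γ(J.left, ⊤))))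
      have h3 : (show Γ((Scheme.Modules.pushforward ((𝟙 J) ^ r : J ⟶ J).left).obj (Coh.structureModule J.left), ⊤) from
        Ega2.Tens.sm (1 : Γ(J.left, ⊤))) =
          (ClSub.unitToPush ((𝟙 J) ^ r : J ⟶ J).left).app ⊤ (Ega2.Tens.sm (1 : Γ(J.left, ⊤))) :=
        (map_one (((𝟙 J) ^ r : J ⟶ J).left.app ⊤).hom).symm
      exact (congrArg (τ.app ⊤) h3).trans h2
    rw [h1]
    exact isUnit_one
  refine PushMul.mulSurj_of_lam dm.left hmJ ?_
  refine PushMul.surj_of_cover ((𝟙 J) ^ r : J ⟶ J).left τ hτ1 hbEE hbE2 (PushMul.lam dm.left _ _) ?_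
  refine PushMul.surj_bc hsq (Ega2.QCohLocal.isQCoh_of_isInvertible hΘm) (Ega2.QCohLocal.isQCoh_of_isInvertible hΘm)
    (Ega2.QCohLocal.isQCoh_of_isInvertible hΘΘ) (StrVer.hasBases hΘm) hbE eq eq ?_
  exact PushMul.lam_box hpr (StrVer.hasBases hAm)
    (PerfA.CohSerre.isCoh_of_isFinLocFree (StrVer.isFinLocFree_of_isInvertible (isInvertible_tensorMod hAm hAm)))
    (StrVer.hasBases hLr) (StrVer.hasBases (isInvertible_tensorMod hLr hLr)) hA

/-- Multiplication maps are transported along isomorphisms of schemes. -/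
theorem mulSurj_pullback_iso {X Y : Scheme.{u}} (f : X ⟶ Y) [IsIso f] {F G : Y.Modules}
    (hF : VarietyB.TensCoh.HasBases F) (hG : VarietyB.TensCoh.HasBases G) (h : K800.MulMap.MulSurj F G) :
    K800.MulMap.MulSurj ((Scheme.Modules.pullback f).obj F) ((Scheme.Modules.pullback f).obj G) := by
  have h1 : IsIso ((Scheme.Modules.pullbackPushforwardAdjunction f).unit.app G) :=
    Sga67.PushTwist.isIso_unit f (fun U _ => ConcreteCategory.bijective_of_isIso (f.app U)) hG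
  exact PushMul.mulSurj_pull f hF
    (h.congr (Iso.refl _) (asIso ((Scheme.Modules.pullbackPushforwardAdjunction f).unit.app G)))

theorem mulSurj_pow_of_iso {X Y : Scheme.{u}} (f : X ⟶ Y) [IsIso f] {A : X.Modules} {B : Y.Modules}
    (hB : PicF.IsInvertible B) (e : A ≅ (Scheme.Modules.pullback f).obj B) (m : ℕ)
    (h : K800.MulMap.MulSurj (CohB1.tensorPow B m) (CohB1.tensorPow B m)) :
    K800.MulMap.MulSurj (CohB1.tensorPow A m) (CohB1.tensorPow A m) := by
  have hb := StrVer.hasBases (isInvertible_tensorPow hB m)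
  have e' : (Scheme.Modules.pullback f).obj (CohB1.tensorPow B m) ≅ CohB1.tensorPow A m :=
    Comp.pullTPow f B m ≪≫ (Ega2.TensPow.powIso e m).symm
  exact (mulSurj_pullback_iso f hb hb h).congr e' e'

end Square

section Rows

/-- Row S16936 from the structure theorem. -/
theorem row16936 {k : Type u} [Field k] [IsAlgClosed k] [CharZero k]
    {X : Scheme.{u}} [X.Over (Spec (CommRingCat.of k))]
    [IsProper (X ↘ Spec (CommRingCat.of k))] [Smooth (X ↘ Spec (CommRingCat.of k))]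
    [GeometricallyConnected (X ↘ Spec (CommRingCat.of k))] (hdim : topologicalKrullDim ↥X = 1)
    {g : ℕ} (hg : Curv2.genus k X = g) (hg2 : 2 ≤ g)
    {r : ℕ} (hr : 2 ≤ r) {N : X.Modules} (hN : PicF.IsInvertible N) (hNdeg : Curv2.deg k X N 1 = (g : ℤ) - 1)
    {M : Over (Spec (CommRingCat.of k))} {Θ : M.left.Modules} (hΘ : PicF.IsInvertible Θ)
    {J : Over (Spec (CommRingCat.of k))} {ψ : (ModFun.PicDeg (X ↘ Spec (CommRingCat.of k)) 0).Hom ⊤ J}
    (hJ : ModFun.IsCoarseModuli ⊤ (ModFun.PicDeg (X ↘ Spec (CommRingCat.of k)) 0) J ψ)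
    {ΘJ : J.left.Modules} (hΘJ : Jac.IsThetaLB (X ↘ Spec (CommRingCat.of k)) 0 ψ N ΘJ)
    {dm : M ⟶ J}
    (hstr : ∀ (_ : GrpObj J) (_ : IsCommMonObj J), Jac.IsJacobian (X ↘ Spec (CommRingCat.of k)) ⊤ J ψ →
      Nonempty (Str r dm Θ ΘJ))
    (hB4 : ∀ (E : J.left.Modules), FlatMod.IsFinLocFree E → ∀ (L Linv : J.left.Modules), CohB1.IsAmple L →
      Nonempty (CohB1.tensorMod L Linv ≅ Coh.structureModule J.left) → ∀ n : ℕ, 2 ≤ n →
      (∀ (α : J.left.Modules), PicF.IsInvertible α → @Pic13.IsAlgEquivZero k _ J.left ⟨J.hom⟩ α → ∀ i : ℕ, 0 < i →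
        (∀ l : ℕ, Subsingleton (Coh.HH J.left (CohB1.tensorMod (CohB1.tensorMod E (CohB1.tensorPow L l)) α) i)) ∧
        Subsingleton (Coh.HH J.left (CohB1.tensorMod (CohB1.tensorMod E Linv) α) i) ∧
        Subsingleton (Coh.HH J.left (CohB1.tensorMod (CohB1.tensorMod E (CohB1.tensorPow Linv 2)) α) i)) →
      Function.Surjective ((toSheafify (Opens.grothendieckTopology J.left) (CohB1.tensorPre (CohB1.tensorPow L n) E).presheaf).app (Opposite.op ⊤)))
    (n : ℕ) (hn : 2 ≤ n) (m : ℕ) (hm : 2 * r + 1 ≤ m) :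
    Function.Surjective ((toSheafify (Opens.grothendieckTopology M.left) (CohB1.tensorPre (CohB1.tensorPow Θ m)
      ((Scheme.Modules.pullback dm.left).obj (CohB1.tensorPow ΘJ n))).presheaf).app (Opposite.op ⊤)) := by
  obtain ⟨hG, hC, hJac⟩ := JB.exists_isJacobian k X hdim J ψ hJ
  obtain ⟨S⟩ := hstr hG hC hJac
  have hP : PPAV g J ΘJ := JB.ppav k X hdim g hg (by omega) N hN hNdeg J ψ hJac ΘJ hΘJ
  rw [← K800.MulMap.mulSurj_iff]
  exact mulSurj_left hP hΘ (by omega) hm S hB4 n hn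

/-- Row S16937 from the structure theorem. -/
theorem row16937 {k : Type u} [Field k] [IsAlgClosed k] [CharZero k]
    {X : Scheme.{u}} [X.Over (Spec (CommRingCat.of k))]
    [IsProper (X ↘ Spec (CommRingCat.of k))] [Smooth (X ↘ Spec (CommRingCat.of k))]
    [GeometricallyConnected (X ↘ Spec (CommRingCat.of k))] (hdim : topologicalKrullDim ↥X = 1)
    {g : ℕ} (hg : Curv2.genus k X = g) (hg2 : 2 ≤ g)
    {r : ℕ} (hr : 2 ≤ r) {N : X.Modules} (hN : PicF.IsInvertible N) (hNdeg : Curv2.deg k X N 1 = (g : ℤ) - 1)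
    (hNth : Nonempty (CohB1.tensorMod N N ≅ Omega.sheaf (X ↘ Spec (CommRingCat.of k))))
    {M : Over (Spec (CommRingCat.of k))} {Θ : M.left.Modules} (hΘ : PicF.IsInvertible Θ)
    {M' : Over (Spec (CommRingCat.of k))} {Θ' : M'.left.Modules} (hΘ' : PicF.IsInvertible Θ')
    {J : Over (Spec (CommRingCat.of k))} [GrpObj J] [IsCommMonObj J]
    {ψ : (ModFun.PicDeg (X ↘ Spec (CommRingCat.of k)) 0).Hom ⊤ J}
    (hJ : Jac.IsJacobian (X ↘ Spec (CommRingCat.of k)) ⊤ J ψ)
    {ΘJ : J.left.Modules} (hΘJ : Jac.IsThetaLB (X ↘ Spec (CommRingCat.of k)) 0 ψ N ΘJ)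
    {dm : M ⟶ J}
    (hB1 : ∀ (E : J.left.Modules), FlatMod.IsFinLocFree E →
      (∀ (α : J.left.Modules), PicF.IsInvertible α → @Pic13.IsAlgEquivZero k _ J.left ⟨J.hom⟩ α →
        ∀ i : ℕ, 0 < i → Subsingleton (Coh.HH J.left (CohB1.tensorMod E α) i)) →
      ∀ (L : J.left.Modules), CohB1.IsAmple L → Curv2.IsGloballyGenerated (CohB1.tensorMod E L))
    (hstr : ∃ (S : Str r dm Θ ΘJ) (e : S.M₀ ≅ M'), Nonempty (S.A ≅ (Scheme.Modules.pullback e.hom.left).obj Θ'))
    (m : ℕ) (hm : 2 * r + 1 ≤ m)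
    (hmul' : Function.Surjective ((toSheafify (Opens.grothendieckTopology M'.left)
      (CohB1.tensorPre (CohB1.tensorPow Θ' m) (CohB1.tensorPow Θ' m)).presheaf).app (Opposite.op ⊤))) :
    Function.Surjective ((toSheafify (Opens.grothendieckTopology M.left)
      (CohB1.tensorPre (CohB1.tensorPow Θ m) (CohB1.tensorPow Θ m)).presheaf).app (Opposite.op ⊤)) := by
  have hP : PPAV g J ΘJ := JB.ppav k X hdim g hg (by omega) N hN hNdeg J ψ hJ ΘJ hΘJ
  have hs : Sym J ΘJ := K527.SymTheta.sym k X hdim g hg (by omega) N hN hNdeg hNth J ψ hJ ΘJ hΘJ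
  obtain ⟨S, e, ⟨a⟩⟩ := hstr
  have : IsIso e.hom.left := inferInstanceAs (IsIso ((Over.forget _).map e.hom))
  rw [← K800.MulMap.mulSurj_iff] at hmul' ⊢
  have hE := F1.verD_of_str hP hΘ (by omega) S m
  have hmJ := K800.MulMap.mulSurj_iff.2 (K524.MulSurj.mulSurj_of_verD hP hs hB1 (by omega) hm hE)
  exact mulSurj_sq hP hΘ (by omega) S m hmJ (mulSurj_pow_of_iso e.hom.left hΘ' a m hmul')

end Rows

end K139.F7
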