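import Groth.Agent.AbVar.K139.Kun0
import Groth.Agent.Ega2.TensPow

/-!
# Multiplication maps and direct images

* `lam f F G : f_* F ⊗ f_* G ⟶ f_* (F ⊗ G)`.
* `mulSurj_of_lam`, `mulSurj_pull`: multiplication maps upstairs from multiplication maps of direct images.
* `lam_bc`: compatibility with base change along a cartesian square with `f_*` commuting with the base change.
* `lam_box`: for `P = M₀ × J'`, `F = A ⊠ L`, `G = B ⊠ N` and `H^0(A) ⊗ H^0(B) → H^0(A ⊗ B)` onto, the map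
  `s_* F ⊗ s_* G ⟶ s_* (F ⊗ G)` is onto on global sections.
-/

set_option autoImplicit false
universe u

open CategoryTheory CategoryTheory.Limits AlgebraicGeometry Opposite TopologicalSpace
open AlgebraicGeometry.Scheme.Modules
open Groth.Agent Groth.Agent.VarietyB Groth.Agent.VarietyB.TensCoh
open Groth.Agent.CohqA.PullbackUniv Groth.Agent.CohqA.PullbackAffine
  Groth.Agent.CohqA.PullbackSections Groth.Agent.CohqA.AffineBaseChange
open Groth.Agent.Ega2 Groth.Agent.Ega2.Tens K800.MulMap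

namespace K139.PushMul

open Groth.Agent.Fdesc.LocGen (pullSec pullSec_smul res_pullSec pullSec_add)

section Lam

variable {M J : Scheme.{u}} (f : M ⟶ J)

/-- `f_* F ⊗ f_* G ⟶ f_* (F ⊗ G)`. -/
noncomputable def lam (F G : M.Modules) :
    CohB1.tensorMod ((pushforward f).obj F) ((pushforward f).obj G) ⟶
      (pushforward f).obj (CohB1.tensorMod F G) :=
  Tens.lift
    (fun U => LinearMap.mk₂ Γ(J, U)
      (fun (a : Γ((pushforward f).obj F, U)) (b : Γ((pushforward f).obj G, U)) =>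
        (show Γ((pushforward f).obj (CohB1.tensorMod F G), U) from
          tmul (show Γ(F, f ⁻¹ᵁ U) from a) (show Γ(G, f ⁻¹ᵁ U) from b)))
      (fun a a' _ => add_tmul (show Γ(F, f ⁻¹ᵁ U) from a) (show Γ(F, f ⁻¹ᵁ U) from a') _)
      (fun r a _ => smul_tmul (f.app U r : Γ(M, f ⁻¹ᵁ U)) (show Γ(F, f ⁻¹ᵁ U) from a) _)
      (fun _ b b' => tmul_add _ (show Γ(G, f ⁻¹ᵁ U) from b) (show Γ(G, f ⁻¹ᵁ U) from b'))
      (fun r _ b => tmul_smul (f.app U r : Γ(M, f ⁻¹ᵁ U)) _ (show Γ(G, f ⁻¹ᵁ U) from b)))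
    (fun _ _ i a b => tmul_res (M := F) (N := G) ((Opens.map f.base).map i) a b)

theorem lam_tmul {F G : M.Modules} {U : J.Opens} (a : Γ(F, f ⁻¹ᵁ U)) (b : Γ(G, f ⁻¹ᵁ U)) :
    (lam f F G).app U (tmul (show Γ((pushforward f).obj F, U) from a)
      (show Γ((pushforward f).obj G, U) from b)) = (tmul a b : Γ(CohB1.tensorMod F G, f ⁻¹ᵁ U)) :=
  lift_tmul _ _ _ _ _

theorem lam_natural {F G F' G' : M.Modules} (φ : F ⟶ F') (ψ : G ⟶ G') :
    mapT ((pushforward f).map φ) ((pushforward f).map ψ) ≫ lam f F' G' =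
      lam f F G ≫ (pushforward f).map (mapT φ ψ) := by
  refine hom_ext _ _ fun U a b => ?_
  have h1 : (mapT ((pushforward f).map φ) ((pushforward f).map ψ)).app U (tmul a b) =
      tmul (show Γ((pushforward f).obj F', U) from φ.app (f ⁻¹ᵁ U) a)
        (show Γ((pushforward f).obj G', U) from ψ.app (f ⁻¹ᵁ U) b) :=
    Tens.mapT_tmul _ _ _ _
  change (lam f F' G').app U ((mapT ((pushforward f).map φ) ((pushforward f).map ψ)).app U (tmul a b)) =
    (mapT φ ψ).app (f ⁻¹ᵁ U) ((lam f F G).app U (tmul a b))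
  rw [h1]
  refine (lam_tmul f _ _).trans ?_
  refine Eq.trans ?_ (congrArg ((mapT φ ψ).app (f ⁻¹ᵁ U)) (lam_tmul f a b)).symm
  exact (Tens.mapT_tmul _ _ _ _).symm

/-- `H^0(f_* F) ⊗ H^0(f_* G) → H^0(f_* F ⊗ f_* G) → H^0(F ⊗ G)`. -/
theorem mulSurj_of_lam {F G : M.Modules} (h : MulSurj ((pushforward f).obj F) ((pushforward f).obj G))
    (hs : ∀ t : Γ(CohB1.tensorMod F G, ⊤), ∃ s : Γ(CohB1.tensorMod ((pushforward f).obj F) ((pushforward f).obj G), ⊤),
      (show Γ(CohB1.tensorMod F G, ⊤) from (lam f F G).app ⊤ s) = t) : MulSurj F G := by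
  intro t
  obtain ⟨s, rfl⟩ := hs t
  refine map_mem (show Γ(CohB1.tensorMod ((pushforward f).obj F) ((pushforward f).obj G), ⊤) →+
    Γ(CohB1.tensorMod F G, ⊤) from gl (lam f F G)) (prods F G) (fun m n => ?_) (h s)
  have h1 : (lam f F G).app ⊤ (tmul m n) = (tmul (U := ⊤) (show Γ(F, ⊤) from m) (show Γ(G, ⊤) from n) :
      Γ(CohB1.tensorMod F G, ⊤)) := lam_tmul f (U := ⊤) m n
  change (lam f F G).app ⊤ (tmul m n) ∈ _
  rw [h1]
  exact tmul_mem_prods _ _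

/-- `H^0(N) ⊗ H^0(f_* G) → H^0(N ⊗ f_* G) = H^0(f^* N ⊗ G)`. -/
theorem mulSurj_pull {N : J.Modules} (hN : HasBases N) {G : M.Modules}
    (h : MulSurj N ((pushforward f).obj G)) : MulSurj ((Scheme.Modules.pullback f).obj N) G := by
  intro t
  let e := ProjForm.projIso f hN G
  have ht : e.hom.app ⊤ (e.inv.app ⊤ t) = t := TensPow.app_symm_app e (U := ⊤) t
  rw [← ht]
  refine map_mem (show Γ(CohB1.tensorMod N ((pushforward f).obj G), ⊤) →+
    Γ(CohB1.tensorMod ((Scheme.Modules.pullback f).obj N) G, ⊤) from gl e.hom)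
      (prods _ G) (fun m n => ?_) (h (e.inv.app ⊤ t))
  have h1 : e.hom.app ⊤ (tmul m n) = (tmul (U := ⊤) (pullSec f m) (show Γ(G, ⊤) from n) :
      Γ(CohB1.tensorMod ((Scheme.Modules.pullback f).obj N) G, ⊤)) := ProjForm.projMor_tmul f N G m n
  change e.hom.app ⊤ (tmul m n) ∈ _
  rw [h1]
  exact tmul_mem_prods _ _

end Lam

section Pull

variable {X Y : Scheme.{u}} (ρ : X ⟶ Y)

/-- Morphisms out of a pull back are determined by the pulled back sections. -/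
theorem pull_hom_ext {M : Y.Modules} {N : X.Modules} (φ ψ : (Scheme.Modules.pullback ρ).obj M ⟶ N)
    (h : ∀ (U : Y.Opens) (m : Γ(M, U)), φ.app (ρ ⁻¹ᵁ U) (pullSec ρ m) = ψ.app (ρ ⁻¹ᵁ U) (pullSec ρ m)) :
    φ = ψ := by
  apply ((pullbackPushforwardAdjunction ρ).homEquiv M N).injective
  ext U m
  exact (Fdesc.LocGen.homEquiv_app ρ φ m).trans ((h U m).trans (Fdesc.LocGen.homEquiv_app ρ ψ m).symm)

/-- Morphisms out of the pull back of a tensor product. -/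
theorem pull_hom_ext₂ {M M' : Y.Modules} {N : X.Modules}
    (φ ψ : (Scheme.Modules.pullback ρ).obj (CohB1.tensorMod M M') ⟶ N)
    (h : ∀ (U : Y.Opens) (m : Γ(M, U)) (m' : Γ(M', U)),
      φ.app (ρ ⁻¹ᵁ U) (pullSec ρ (tmul m m')) = ψ.app (ρ ⁻¹ᵁ U) (pullSec ρ (tmul m m'))) : φ = ψ := by
  apply ((pullbackPushforwardAdjunction ρ).homEquiv _ N).injective
  refine hom_ext _ _ fun U m m' => ?_
  exact (Fdesc.LocGen.homEquiv_app ρ φ _).trans ((h U m m').trans (Fdesc.LocGen.homEquiv_app ρ ψ _).symm)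

end Pull

section Ret

variable {X Y : Scheme.{u}} (ρ : X ⟶ Y) (τ : (pushforward ρ).obj (Coh.structureModule X) ⟶ Coh.structureModule Y)

/-- The retraction `ρ_* ρ^* P ⟶ P` attached to `τ : ρ_* O ⟶ O`. -/
noncomputable def ret {P : Y.Modules} (hP : HasBases P) :
    (pushforward ρ).obj ((Scheme.Modules.pullback ρ).obj P) ⟶ P :=
  (pushforward ρ).map (Tens.runit _).inv ≫ (ProjForm.projIso ρ hP (Coh.structureModule X)).inv ≫
    mapT (𝟙 P) τ ≫ (Tens.runit P).hom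

/-- On a pulled back section times a function. -/
theorem ret_smul {P : Y.Modules} (hP : HasBases P) {U : Y.Opens} (r : Γ(X, ρ ⁻¹ᵁ U)) (p : Γ(P, U)) :
    (ret ρ τ hP).app U (r • pullSec ρ p : Γ((Scheme.Modules.pullback ρ).obj P, ρ ⁻¹ᵁ U)) =
      (show Γ(Y, U) from τ.app U (show Γ((pushforward ρ).obj (Coh.structureModule X), U) from sm r)) • p := by
  change (Tens.runit P).hom.app U ((mapT (𝟙 P) τ).app U
    ((ProjForm.projIso ρ hP (Coh.structureModule X)).inv.app U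
      ((Tens.runit ((Scheme.Modules.pullback ρ).obj P)).inv.app (ρ ⁻¹ᵁ U) (r • pullSec ρ p)))) = _
  rw [Tens.runit_inv_app]
  have h1 : (ProjForm.projIso ρ hP (Coh.structureModule X)).inv.app U
      (tmul (r • pullSec ρ p) (sm 1) : Γ(CohB1.tensorMod ((Scheme.Modules.pullback ρ).obj P) (Coh.structureModule X),
        ρ ⁻¹ᵁ U)) = tmul p (show Γ((pushforward ρ).obj (Coh.structureModule X), U) from sm r) := by
    have h2 : (ProjForm.projIso ρ hP (Coh.structureModule X)).hom.app U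
        (tmul p (show Γ((pushforward ρ).obj (Coh.structureModule X), U) from sm r)) =
        (tmul (pullSec ρ p) (sm r) : Γ(CohB1.tensorMod ((Scheme.Modules.pullback ρ).obj P) (Coh.structureModule X),
        ρ ⁻¹ᵁ U)) := ProjForm.projMor_tmul ρ P _ p (sm r)
    have h3 : (tmul (r • pullSec ρ p) (sm 1) : Γ(CohB1.tensorMod ((Scheme.Modules.pullback ρ).obj P)
        (Coh.structureModule X), ρ ⁻¹ᵁ U)) = tmul (pullSec ρ p) (sm r) := by
      rw [smul_tmul, sm_eq_smul r, tmul_smul]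
    rw [h3]
    refine Eq.trans (congrArg _ h2.symm) ?_
    exact TensPow.symm_app_app (ProjForm.projIso ρ hP (Coh.structureModule X)) _
  refine (congrArg (fun z => (Tens.runit P).hom.app U ((mapT (𝟙 P) τ).app U z)) h1).trans ?_
  have h4 : (mapT (𝟙 P) τ).app U (tmul p (show Γ((pushforward ρ).obj (Coh.structureModule X), U) from sm r)) =
      tmul p (sm (show Γ(Y, U) from τ.app U (show Γ((pushforward ρ).obj (Coh.structureModule X), U) from sm r))) :=
    Tens.mapT_tmul _ _ _ _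
  refine (congrArg (fun z => (Tens.runit P).hom.app U z) h4).trans ?_
  exact Tens.runit_hom_tmul _ _

theorem runit_natural {E E' : Y.Modules} (φ : E ⟶ E') :
    mapT φ (𝟙 (Coh.structureModule Y)) ≫ (Tens.runit E').hom = (Tens.runit E).hom ≫ φ := by
  refine hom_ext _ _ fun U e r => ?_
  obtain ⟨r, rfl⟩ := exists_sm r
  have h1 : (mapT φ (𝟙 (Coh.structureModule Y))).app U (tmul e (sm r)) = tmul (φ.app U e) (sm r) :=
    Tens.mapT_tmul _ _ _ _
  change (Tens.runit E').hom.app U ((mapT φ (𝟙 (Coh.structureModule Y))).app U (tmul e (sm r))) =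
    φ.app U ((Tens.runit E).hom.app U (tmul e (sm r)))
  rw [h1, Tens.runit_hom_tmul, Tens.runit_hom_tmul, Hom.app_smul]

theorem projMor_natural {E E' : Y.Modules} (φ : E ⟶ E') (G : X.Modules) :
    mapT φ (𝟙 ((pushforward ρ).obj G)) ≫ ProjForm.projMor ρ E' G =
      ProjForm.projMor ρ E G ≫ (pushforward ρ).map (mapT ((Scheme.Modules.pullback ρ).map φ) (𝟙 G)) := by
  refine hom_ext _ _ fun U e g => ?_
  have h1 : (mapT φ (𝟙 ((pushforward ρ).obj G))).app U (tmul e g) = tmul (φ.app U e) g :=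
    Tens.mapT_tmul _ _ _ _
  have h2 := ProjForm.projMor_tmul ρ E' G (φ.app U e) g
  have h3 := ProjForm.projMor_tmul ρ E G e g
  have h4 : (mapT ((Scheme.Modules.pullback ρ).map φ) (𝟙 G)).app (ρ ⁻¹ᵁ U)
      (tmul (pullSec ρ e) (show Γ(G, ρ ⁻¹ᵁ U) from g)) =
      tmul (((Scheme.Modules.pullback ρ).map φ).app (ρ ⁻¹ᵁ U) (pullSec ρ e))
        (show Γ(G, ρ ⁻¹ᵁ U) from g) :=
    Tens.mapT_tmul _ _ _ _
  rw [Fdesc.LocGen.pullback_map_pullSec] at h4
  change (ProjForm.projMor ρ E' G).app U ((mapT φ (𝟙 _)).app U (tmul e g)) =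
    (mapT ((Scheme.Modules.pullback ρ).map φ) (𝟙 G)).app (ρ ⁻¹ᵁ U) ((ProjForm.projMor ρ E G).app U (tmul e g))
  rw [h1]
  refine h2.trans ?_
  refine Eq.trans ?_ (congrArg ((mapT ((Scheme.Modules.pullback ρ).map φ) (𝟙 G)).app (ρ ⁻¹ᵁ U)) h3).symm
  exact h4.symm

/-- Naturality of the retraction. -/
theorem ret_natural {P Q : Y.Modules} (hP : HasBases P) (hQ : HasBases Q) (φ : P ⟶ Q) :
    (pushforward ρ).map ((Scheme.Modules.pullback ρ).map φ) ≫ ret ρ τ hQ = ret ρ τ hP ≫ φ := by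
  have h1 : (pushforward ρ).map ((Scheme.Modules.pullback ρ).map φ) ≫ (pushforward ρ).map (Tens.runit _).inv =
      (pushforward ρ).map (Tens.runit _).inv ≫ (pushforward ρ).map (mapT ((Scheme.Modules.pullback ρ).map φ) (𝟙 _)) := by
    rw [← Functor.map_comp, ← Functor.map_comp]
    congr 1
    rw [Iso.comp_inv_eq, Category.assoc, runit_natural, Iso.inv_hom_id_assoc]
  have h2 : (pushforward ρ).map (mapT ((Scheme.Modules.pullback ρ).map φ) (𝟙 _)) ≫
      (ProjForm.projIso ρ hQ (Coh.structureModule X)).inv =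
      (ProjForm.projIso ρ hP (Coh.structureModule X)).inv ≫ mapT φ (𝟙 _) := by
    rw [Iso.comp_inv_eq, Category.assoc, Iso.eq_inv_comp]
    exact (projMor_natural ρ φ (Coh.structureModule X)).symm
  have h3 : mapT φ (𝟙 _) ≫ mapT (𝟙 Q) τ = mapT (𝟙 P) τ ≫ mapT φ (𝟙 _) := by
    rw [← mapT_comp, ← mapT_comp, Category.id_comp, Category.comp_id, Category.id_comp, Category.comp_id]
  unfold ret
  rw [← Category.assoc, h1, Category.assoc, reassoc_of% h2, reassoc_of% h3, runit_natural]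
  simp only [Category.assoc]

/-- **Surjectivity on global sections descends.** -/
theorem surj_of_cover (hτ : IsUnit (show Γ(Y, ⊤) from
      τ.app ⊤ (show Γ((pushforward ρ).obj (Coh.structureModule X), ⊤) from sm (1 : Γ(X, ⊤)))))
    {P Q : Y.Modules} (hP : HasBases P) (hQ : HasBases Q) (φ : P ⟶ Q)
    (h : ∀ t : Γ((Scheme.Modules.pullback ρ).obj Q, ⊤), ∃ s : Γ((Scheme.Modules.pullback ρ).obj P, ⊤),
      ((Scheme.Modules.pullback ρ).map φ).app ⊤ s = t) (t : Γ(Q, ⊤)) :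
    ∃ s : Γ(P, ⊤), φ.app ⊤ s = t := by
  obtain ⟨c, hc⟩ := hτ
  obtain ⟨s, hs⟩ := h (pullSec ρ ((↑c⁻¹ : Γ(Y, ⊤)) • t))
  refine ⟨(ret ρ τ hP).app ⊤ s, ?_⟩
  have h1 : φ.app ⊤ ((ret ρ τ hP).app ⊤ s) = (ret ρ τ hQ).app ⊤ (((Scheme.Modules.pullback ρ).map φ).app ⊤ s) :=
    congr($(congrArg (fun z => Hom.app z ⊤) (ret_natural ρ τ hP hQ φ)) s).symm
  have h2 := ret_smul ρ τ hQ (U := ⊤) (1 : Γ(X, ⊤)) ((↑c⁻¹ : Γ(Y, ⊤)) • t)
  have h3 : (1 : Γ(X, ρ ⁻¹ᵁ ⊤)) • pullSec ρ ((↑c⁻¹ : Γ(Y, ⊤)) • t) = pullSec ρ ((↑c⁻¹ : Γ(Y, ⊤)) • t) := one_smul _ _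
  refine h1.trans ((congrArg _ (hs.trans h3.symm)).trans (h2.trans ?_))
  refine (congrArg (· • ((↑c⁻¹ : Γ(Y, ⊤)) • t)) hc.symm).trans ?_
  rw [smul_smul, Units.mul_inv, one_smul]

end Ret

section BC

variable {M J P J' : Scheme.{u}} {q : P ⟶ M} {s : P ⟶ J'} {f : M ⟶ J} {ρ : J' ⟶ J}

/-- Base change of the direct image, on sections. -/
theorem exists_theta (H : IsPullback q s f ρ) [QuasiCompact f] [QuasiSeparated f] [Flat ρ] {F : M.Modules}
    (hF : Coh.IsQCoh F) :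
    ∃ θ : (Scheme.Modules.pullback ρ).obj ((pushforward f).obj F) ≅
        (pushforward s).obj ((Scheme.Modules.pullback q).obj F),
      ∀ (U : J.Opens) (z : Γ(F, f ⁻¹ᵁ U)),
        θ.hom.app (ρ ⁻¹ᵁ U) (pullSec ρ (show Γ((pushforward f).obj F, U) from z)) =
          TensLoc.res ((Scheme.Modules.pullback q).obj F) (preimage_le H.w U (ρ ⁻¹ᵁ U) le_rfl) (pullSec q z) := by
  have h1 := Coherent.K791.FBC0.isUniv_pushSquare_flat H hF (pbUnit q F) (isUniv_pbUnit q F)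
  obtain ⟨θ, hθ, -⟩ := (isUniv_pbUnit ρ ((pushforward f).obj F)).exists_iso h1
  refine ⟨θ, fun U z => ?_⟩
  have h4 : θ.hom.app (ρ ⁻¹ᵁ U) (pullSec ρ (show Γ((pushforward f).obj F, U) from z)) =
      (pushSquare f ρ q s H.w (pbUnit q F)).app U z :=
    congr($(congrArg (fun t => Hom.app t U) hθ) z)
  have h5 := secMap_pushSquare f ρ q s H.w (pbUnit q F) U (ρ ⁻¹ᵁ U) le_rfl
    (preimage_le H.w U (ρ ⁻¹ᵁ U) le_rfl) z
  have h6 : secMap ρ (pushSquare f ρ q s H.w (pbUnit q F)) U (ρ ⁻¹ᵁ U) le_rfl z =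
      (pushSquare f ρ q s H.w (pbUnit q F)).app U z :=
    TensLoc.res_self ((pushforward s).obj ((Scheme.Modules.pullback q).obj F)) le_rfl _
  exact h4.trans (h6.symm.trans h5)

/-- **Surjectivity of `ρ^* λ` on global sections from that of the map on `P`.** -/
theorem surj_bc (H : IsPullback q s f ρ) [QuasiCompact f] [QuasiSeparated f] [Flat ρ] {F G : M.Modules}
    (hF : Coh.IsQCoh F) (hG : Coh.IsQCoh G) (hFG : Coh.IsQCoh (CohB1.tensorMod F G))
    (hbF : HasBases F) (hbE : HasBases ((pushforward f).obj F))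
    {F' G' : P.Modules} (eF : (Scheme.Modules.pullback q).obj F ≅ F') (eG : (Scheme.Modules.pullback q).obj G ≅ G')
    (h : ∀ t : Γ(CohB1.tensorMod F' G', ⊤),
      ∃ z : Γ(CohB1.tensorMod ((pushforward s).obj F') ((pushforward s).obj G'), ⊤),
      (show Γ(CohB1.tensorMod F' G', ⊤) from (lam s F' G').app ⊤ z) = t)
    (t : Γ((Scheme.Modules.pullback ρ).obj ((pushforward f).obj (CohB1.tensorMod F G)), ⊤)) :
    ∃ z, ((Scheme.Modules.pullback ρ).map (lam f F G)).app ⊤ z = t := by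
  obtain ⟨θF, hθF⟩ := exists_theta H hF
  obtain ⟨θG, hθG⟩ := exists_theta H hG
  obtain ⟨θ, hθ⟩ := exists_theta H hFG
  let d1 := CohqB.PullTwist471.pullTensorIsoLeft ρ hbE ((pushforward f).obj G)
  let d2 := CohqB.PullTwist471.pullTensorIsoLeft q hbF G
  -- left vertical isomorphism
  let a : (Scheme.Modules.pullback ρ).obj (CohB1.tensorMod ((pushforward f).obj F) ((pushforward f).obj G)) ≅
      CohB1.tensorMod ((pushforward s).obj F') ((pushforward s).obj G') :=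
    d1 ≪≫ mapTIso θF θG ≪≫ mapTIso ((pushforward s).mapIso eF) ((pushforward s).mapIso eG)
  let b : (Scheme.Modules.pullback ρ).obj ((pushforward f).obj (CohB1.tensorMod F G)) ≅
      (pushforward s).obj (CohB1.tensorMod F' G') :=
    θ ≪≫ (pushforward s).mapIso d2 ≪≫ (pushforward s).mapIso (mapTIso eF eG)
  have key : (Scheme.Modules.pullback ρ).map (lam f F G) ≫ b.hom = a.hom ≫ lam s F' G' := by
    refine pull_hom_ext₂ ρ _ _ fun U m m' => ?_
    let le := preimage_le H.w U (ρ ⁻¹ᵁ U) le_rfl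
    have hm : Γ(F, f ⁻¹ᵁ U) := m
    have l1 : ((Scheme.Modules.pullback ρ).map (lam f F G)).app (ρ ⁻¹ᵁ U) (pullSec ρ (tmul m m')) =
        pullSec ρ (show Γ((pushforward f).obj (CohB1.tensorMod F G), U) from
          tmul (show Γ(F, f ⁻¹ᵁ U) from m) (show Γ(G, f ⁻¹ᵁ U) from m')) :=
      (Fdesc.LocGen.pullback_map_pullSec ρ (lam f F G) (tmul m m')).trans (congrArg (pullSec ρ) (lam_tmul f m m'))
    have l2 := hθ U (tmul (show Γ(F, f ⁻¹ᵁ U) from m) (show Γ(G, f ⁻¹ᵁ U) from m'))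
    have l3 : d2.hom.app (s ⁻¹ᵁ (ρ ⁻¹ᵁ U)) (TensLoc.res ((Scheme.Modules.pullback q).obj (CohB1.tensorMod F G)) le
          (pullSec q (tmul (show Γ(F, f ⁻¹ᵁ U) from m) (show Γ(G, f ⁻¹ᵁ U) from m')))) =
        tmul (TensLoc.res ((Scheme.Modules.pullback q).obj F) le (pullSec q (show Γ(F, f ⁻¹ᵁ U) from m)))
          (TensLoc.res ((Scheme.Modules.pullback q).obj G) le (pullSec q (show Γ(G, f ⁻¹ᵁ U) from m'))) := by
      rw [TensLoc.app_res]
      refine (congrArg (TensLoc.res _ le) (Ega3B.PullTensor.delta_pullSec q F G _ _)).trans ?_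
      exact TensLoc.res_tmul le _ _
    have l4 : (mapTIso eF eG).hom.app (s ⁻¹ᵁ (ρ ⁻¹ᵁ U)) (tmul
          (TensLoc.res ((Scheme.Modules.pullback q).obj F) le (pullSec q (show Γ(F, f ⁻¹ᵁ U) from m)))
          (TensLoc.res ((Scheme.Modules.pullback q).obj G) le (pullSec q (show Γ(G, f ⁻¹ᵁ U) from m')))) =
        tmul (eF.hom.app (s ⁻¹ᵁ (ρ ⁻¹ᵁ U)) (TensLoc.res ((Scheme.Modules.pullback q).obj F) le
            (pullSec q (show Γ(F, f ⁻¹ᵁ U) from m))))
          (eG.hom.app (s ⁻¹ᵁ (ρ ⁻¹ᵁ U)) (TensLoc.res ((Scheme.Modules.pullback q).obj G) le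
            (pullSec q (show Γ(G, f ⁻¹ᵁ U) from m')))) := TensPow.mapTIso_tmul _ _ _ _
    have r1 : d1.hom.app (ρ ⁻¹ᵁ U) (pullSec ρ (tmul m m')) = tmul (pullSec ρ m) (pullSec ρ m') :=
      Ega3B.PullTensor.delta_pullSec ρ _ _ _ _
    have r2 : (mapTIso θF θG).hom.app (ρ ⁻¹ᵁ U) (tmul (pullSec ρ m) (pullSec ρ m')) =
        tmul (θF.hom.app (ρ ⁻¹ᵁ U) (pullSec ρ m)) (θG.hom.app (ρ ⁻¹ᵁ U) (pullSec ρ m')) :=
      TensPow.mapTIso_tmul _ _ _ _
    have r3 := hθF U m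
    have r4 := hθG U m'
    have r5 : (mapTIso ((pushforward s).mapIso eF) ((pushforward s).mapIso eG)).hom.app (ρ ⁻¹ᵁ U)
        (tmul (θF.hom.app (ρ ⁻¹ᵁ U) (pullSec ρ m)) (θG.hom.app (ρ ⁻¹ᵁ U) (pullSec ρ m'))) =
        tmul (((pushforward s).mapIso eF).hom.app (ρ ⁻¹ᵁ U) (θF.hom.app (ρ ⁻¹ᵁ U) (pullSec ρ m)))
          (((pushforward s).mapIso eG).hom.app (ρ ⁻¹ᵁ U) (θG.hom.app (ρ ⁻¹ᵁ U) (pullSec ρ m'))) :=
      TensPow.mapTIso_tmul _ _ _ _
    have L : ((Scheme.Modules.pullback ρ).map (lam f F G) ≫ b.hom).app (ρ ⁻¹ᵁ U) (pullSec ρ (tmul m m')) =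
        tmul (eF.hom.app (s ⁻¹ᵁ (ρ ⁻¹ᵁ U)) (TensLoc.res ((Scheme.Modules.pullback q).obj F) le
            (pullSec q (show Γ(F, f ⁻¹ᵁ U) from m))))
          (eG.hom.app (s ⁻¹ᵁ (ρ ⁻¹ᵁ U)) (TensLoc.res ((Scheme.Modules.pullback q).obj G) le
            (pullSec q (show Γ(G, f ⁻¹ᵁ U) from m')))) := by
      change (mapTIso eF eG).hom.app (s ⁻¹ᵁ (ρ ⁻¹ᵁ U)) (d2.hom.app (s ⁻¹ᵁ (ρ ⁻¹ᵁ U)) (θ.hom.app (ρ ⁻¹ᵁ U)
        (((Scheme.Modules.pullback ρ).map (lam f F G)).app (ρ ⁻¹ᵁ U) (pullSec ρ (tmul m m'))))) = _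
      rw [l1]
      refine (congrArg (fun z => (mapTIso eF eG).hom.app (s ⁻¹ᵁ (ρ ⁻¹ᵁ U)) (d2.hom.app (s ⁻¹ᵁ (ρ ⁻¹ᵁ U)) z)) l2).trans ?_
      exact (congrArg (fun z => (mapTIso eF eG).hom.app (s ⁻¹ᵁ (ρ ⁻¹ᵁ U)) z) l3).trans l4
    have R : (a.hom ≫ lam s F' G').app (ρ ⁻¹ᵁ U) (pullSec ρ (tmul m m')) =
        tmul (eF.hom.app (s ⁻¹ᵁ (ρ ⁻¹ᵁ U)) (TensLoc.res ((Scheme.Modules.pullback q).obj F) le
            (pullSec q (show Γ(F, f ⁻¹ᵁ U) from m))))
          (eG.hom.app (s ⁻¹ᵁ (ρ ⁻¹ᵁ U)) (TensLoc.res ((Scheme.Modules.pullback q).obj G) le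
            (pullSec q (show Γ(G, f ⁻¹ᵁ U) from m')))) := by
      change (lam s F' G').app (ρ ⁻¹ᵁ U) ((mapTIso ((pushforward s).mapIso eF) ((pushforward s).mapIso eG)).hom.app
        (ρ ⁻¹ᵁ U) ((mapTIso θF θG).hom.app (ρ ⁻¹ᵁ U) (d1.hom.app (ρ ⁻¹ᵁ U) (pullSec ρ (tmul m m'))))) = _
      rw [r1, r2, r5]
      refine (lam_tmul s _ _).trans ?_
      exact congrArg₂ (fun x y => tmul x y) (congrArg (eF.hom.app (s ⁻¹ᵁ (ρ ⁻¹ᵁ U))) r3)
        (congrArg (eG.hom.app (s ⁻¹ᵁ (ρ ⁻¹ᵁ U))) r4)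
    exact L.trans R.symm
  obtain ⟨z, hz⟩ := h (b.hom.app ⊤ t)
  refine ⟨a.inv.app ⊤ z, ?_⟩
  have h1 : b.hom.app ⊤ (((Scheme.Modules.pullback ρ).map (lam f F G)).app ⊤ (a.inv.app ⊤ z)) =
      (lam s F' G').app ⊤ (a.hom.app ⊤ (a.inv.app ⊤ z)) :=
    congr($(congrArg (fun t => Hom.app t ⊤) key) (a.inv.app ⊤ z))
  have h2 : a.hom.app ⊤ (a.inv.app ⊤ z) = z := TensPow.app_symm_app a z
  rw [h2] at h1
  have h3 : (lam s F' G').app ⊤ z = b.hom.app ⊤ t := hz
  rw [h3] at h1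
  have h4 := congrArg (b.inv.app ⊤) h1
  have h5 := TensPow.symm_app_app b (U := ⊤) t
  have h6 := TensPow.symm_app_app b (U := ⊤) (((Scheme.Modules.pullback ρ).map (lam f F G)).app ⊤ (a.inv.app ⊤ z))
  exact h6.symm.trans (h4.trans h5)

end BC

section Box

variable {P X₀ J' : Scheme.{u}} {k : Type u} [Field k] {q₀ : X₀ ⟶ Spec (CommRingCat.of k)}
  {q' : J' ⟶ Spec (CommRingCat.of k)} {p : P ⟶ X₀} {s : P ⟶ J'}

/-- Multiplication by a section of `A` on the first factor: `L ⟶ s_* (p^* A ⊗ s^* L)`. -/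
noncomputable def mulBox {A : X₀.Modules} (a : Γ(A, ⊤)) (L : J'.Modules) :
    L ⟶ (pushforward s).obj (CohB1.tensorMod ((Scheme.Modules.pullback p).obj A) ((Scheme.Modules.pullback s).obj L)) :=
  Tens.mkHom (fun U =>
    { toFun := fun l => (show Γ((pushforward s).obj (CohB1.tensorMod ((Scheme.Modules.pullback p).obj A)
        ((Scheme.Modules.pullback s).obj L)), U) from
        tmul (TensLoc.res ((Scheme.Modules.pullback p).obj A) (le_top : s ⁻¹ᵁ U ≤ p ⁻¹ᵁ ⊤) (pullSec p a)) (pullSec s l))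
      map_add' := fun l l' => by
        rw [pullSec_add]
        exact tmul_add _ _ _
      map_smul' := fun r l => by
        rw [pullSec_smul]
        exact tmul_smul (s.app U r : Γ(P, s ⁻¹ᵁ U)) _ _ })
    (fun U V i l => by
      refine (tmul_res (X := P) ((Opens.map s.base).map i) _ _).trans ?_
      refine congrArg₂ (fun x y => tmul x y) ?_ ?_
      · exact TensLoc.res_res _ _ _ _
      · exact res_pullSec s i.le l)

theorem mulBox_app {A : X₀.Modules} (a : Γ(A, ⊤)) {L : J'.Modules} {U : J'.Opens} (l : Γ(L, U)) :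
    (mulBox (p := p) (s := s) a L).app U l =
      (tmul (TensLoc.res ((Scheme.Modules.pullback p).obj A) (le_top : s ⁻¹ᵁ U ≤ p ⁻¹ᵁ ⊤) (pullSec p a)) (pullSec s l) :
        Γ(CohB1.tensorMod ((Scheme.Modules.pullback p).obj A) ((Scheme.Modules.pullback s).obj L), s ⁻¹ᵁ U)) := rfl

/-- `(A ⊗ B) ⊗ (L ⊗ N) ≅ (A ⊗ L) ⊗ (B ⊗ N)`. -/
noncomputable def inter {X : Scheme.{u}} (A B L N : X.Modules) :
    CohB1.tensorMod (CohB1.tensorMod A B) (CohB1.tensorMod L N) ≅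
      CohB1.tensorMod (CohB1.tensorMod A L) (CohB1.tensorMod B N) :=
  Tens.assoc A B _ ≪≫ mapTIso (Iso.refl A) ((Tens.assoc B L N).symm ≪≫ mapTIso (Tens.swap B L) (Iso.refl N) ≪≫
    Tens.assoc L B N) ≪≫ (Tens.assoc A L _).symm

theorem inter_tmul {X : Scheme.{u}} {A B L N : X.Modules} {U : X.Opens} (a : Γ(A, U)) (b : Γ(B, U)) (l : Γ(L, U))
    (n : Γ(N, U)) : (inter A B L N).hom.app U (tmul (tmul a b) (tmul l n)) = tmul (tmul a l) (tmul b n) := by
  let e := (Tens.assoc B L N).symm ≪≫ mapTIso (Tens.swap B L) (Iso.refl N) ≪≫ Tens.assoc L B N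
  have h1 : e.hom.app U (tmul b (tmul l n)) = tmul l (tmul b n) := by
    have g1 : (Tens.assoc B L N).inv.app U (tmul b (tmul l n)) = tmul (tmul b l) n :=
      TensPow.assoc_inv_tmul _ _ _
    have g2 : (mapTIso (Tens.swap B L) (Iso.refl N)).hom.app U (tmul (tmul b l) n) = tmul (tmul l b) n :=
      (Tens.mapT_tmul _ _ _ _).trans (congrArg (fun z => tmul z n) (TensPow.swap_tmul b l))
    have g3 : (Tens.assoc L B N).hom.app U (tmul (tmul l b) n) = tmul l (tmul b n) := TensPow.assoc_tmul _ _ _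
    exact (congrArg (fun z => (Tens.assoc L B N).hom.app U ((mapTIso (Tens.swap B L) (Iso.refl N)).hom.app U z)) g1).trans
      ((congrArg (fun z => (Tens.assoc L B N).hom.app U z) g2).trans g3)
  have h2 : (Tens.assoc A B (CohB1.tensorMod L N)).hom.app U (tmul (tmul a b) (tmul l n)) =
      tmul a (tmul b (tmul l n)) := TensPow.assoc_tmul _ _ _
  have h3 : (mapTIso (Iso.refl A) e).hom.app U (tmul a (tmul b (tmul l n))) = tmul a (tmul l (tmul b n)) :=
    (Tens.mapT_tmul _ _ _ _).trans (congrArg (fun z => tmul a z) h1)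
  have h4 : (Tens.assoc A L (CohB1.tensorMod B N)).inv.app U (tmul a (tmul l (tmul b n))) =
      tmul (tmul a l) (tmul b n) := TensPow.assoc_inv_tmul _ _ _
  exact (congrArg (fun z => (Tens.assoc A L (CohB1.tensorMod B N)).inv.app U
    ((mapTIso (Iso.refl A) e).hom.app U z)) h2).trans
    ((congrArg (fun z => (Tens.assoc A L (CohB1.tensorMod B N)).inv.app U z) h3).trans h4)

/-- The interchange isomorphism for the pulled back modules. -/
theorem exists_xi {A B : X₀.Modules} (hA : HasBases A) {L N : J'.Modules} (hL : HasBases L) :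
    ∃ Ξ : CohB1.tensorMod ((Scheme.Modules.pullback p).obj (CohB1.tensorMod A B))
      ((Scheme.Modules.pullback s).obj (CohB1.tensorMod L N)) ≅
      CohB1.tensorMod (CohB1.tensorMod ((Scheme.Modules.pullback p).obj A) ((Scheme.Modules.pullback s).obj L))
        (CohB1.tensorMod ((Scheme.Modules.pullback p).obj B) ((Scheme.Modules.pullback s).obj N)),
      ∀ (U : J'.Opens) (a : Γ(A, ⊤)) (b : Γ(B, ⊤)) (l : Γ(L, U)) (n : Γ(N, U)),
        Ξ.hom.app (s ⁻¹ᵁ U)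
          (tmul (TensLoc.res ((Scheme.Modules.pullback p).obj (CohB1.tensorMod A B)) (le_top : s ⁻¹ᵁ U ≤ p ⁻¹ᵁ ⊤)
            (pullSec p (tmul a b))) (pullSec s (tmul l n))) =
          tmul (tmul (TensLoc.res ((Scheme.Modules.pullback p).obj A) (le_top : s ⁻¹ᵁ U ≤ p ⁻¹ᵁ ⊤) (pullSec p a))
              (pullSec s l))
            (tmul (TensLoc.res ((Scheme.Modules.pullback p).obj B) (le_top : s ⁻¹ᵁ U ≤ p ⁻¹ᵁ ⊤) (pullSec p b))
              (pullSec s n)) := by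
  let dp := CohqB.PullTwist471.pullTensorIsoLeft p hA B
  let ds := CohqB.PullTwist471.pullTensorIsoLeft s hL N
  refine ⟨mapTIso dp ds ≪≫ inter _ _ _ _, fun U a b l n => ?_⟩
  have g3 : (mapTIso dp ds).hom.app (s ⁻¹ᵁ U)
      (tmul (TensLoc.res ((Scheme.Modules.pullback p).obj (CohB1.tensorMod A B)) (le_top : s ⁻¹ᵁ U ≤ p ⁻¹ᵁ ⊤)
        (pullSec p (tmul a b))) (pullSec s (tmul l n))) =
      tmul (tmul (TensLoc.res ((Scheme.Modules.pullback p).obj A) (le_top : s ⁻¹ᵁ U ≤ p ⁻¹ᵁ ⊤) (pullSec p a))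
        (TensLoc.res ((Scheme.Modules.pullback p).obj B) (le_top : s ⁻¹ᵁ U ≤ p ⁻¹ᵁ ⊤) (pullSec p b)))
        (tmul (pullSec s l) (pullSec s n)) := by
    refine (TensPow.mapTIso_tmul _ _ _ _).trans ?_
    refine congrArg₂ (fun x y => tmul x y) ?_ (Ega3B.PullTensor.delta_pullSec s L N l n)
    rw [TensLoc.app_res]
    refine (congrArg (TensLoc.res _ _) (Ega3B.PullTensor.delta_pullSec p A B a b)).trans ?_
    exact TensLoc.res_tmul _ _ _
  have g4 := inter_tmul (TensLoc.res ((Scheme.Modules.pullback p).obj A) (le_top : s ⁻¹ᵁ U ≤ p ⁻¹ᵁ ⊤) (pullSec p a))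
    (TensLoc.res ((Scheme.Modules.pullback p).obj B) (le_top : s ⁻¹ᵁ U ≤ p ⁻¹ᵁ ⊤) (pullSec p b))
    (pullSec s l) (pullSec s n)
  exact (congrArg (fun z => (inter _ _ _ _).hom.app (s ⁻¹ᵁ U) z) g3).trans g4

/-- The box case, abstractly. -/
theorem lam_box_aux [IsProper q₀] (H : IsPullback p s q₀ q') {A B : X₀.Modules}
    (hAB : Coh.IsCoh (CohB1.tensorMod A B)) {L N : J'.Modules}
    (hLN : HasBases (CohB1.tensorMod L N)) (hmul : MulSurj A B) {F G : P.Modules}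
    (mA : Γ(A, ⊤) → (L ⟶ (pushforward s).obj F)) (mB : Γ(B, ⊤) → (N ⟶ (pushforward s).obj G))
    (Ξ : CohB1.tensorMod ((Scheme.Modules.pullback p).obj (CohB1.tensorMod A B))
      ((Scheme.Modules.pullback s).obj (CohB1.tensorMod L N)) ≅ CohB1.tensorMod F G)
    (hΞ : ∀ (U : J'.Opens) (a : Γ(A, ⊤)) (b : Γ(B, ⊤)) (l : Γ(L, U)) (n : Γ(N, U)),
        Ξ.hom.app (s ⁻¹ᵁ U)
          (tmul (TensLoc.res ((Scheme.Modules.pullback p).obj (CohB1.tensorMod A B)) (le_top : s ⁻¹ᵁ U ≤ p ⁻¹ᵁ ⊤)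
            (pullSec p (tmul a b))) (pullSec s (tmul l n))) =
          tmul (show Γ(F, s ⁻¹ᵁ U) from (mA a).app U l) (show Γ(G, s ⁻¹ᵁ U) from (mB b).app U n))
    (t : Γ(CohB1.tensorMod F G, ⊤)) :
    ∃ z, (show Γ(CohB1.tensorMod F G, ⊤) from (lam s F G).app ⊤ z) = t := by
  let R : AddSubgroup Γ(CohB1.tensorMod F G, ⊤) :=
    (show Γ(CohB1.tensorMod ((pushforward s).obj F) ((pushforward s).obj G), ⊤) →+
      Γ(CohB1.tensorMod F G, ⊤) from gl (lam s F G)).range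
  suffices h : t ∈ R from h
  have ht : Ξ.hom.app ⊤ (Ξ.inv.app ⊤ t) = t := TensPow.app_symm_app Ξ t
  rw [← ht]
  obtain ⟨n, c, w, hcw⟩ := Kun0.kun H hAB hLN (Ξ.inv.app ⊤ t)
  rw [hcw]
  refine (congrArg (· ∈ R) (map_sum (Ξ.hom.app ⊤).hom _ _)).mpr ?_
  refine AddSubgroup.sum_mem _ fun j _ => ?_
  have key : ∀ (a : Γ(A, ⊤)) (b : Γ(B, ⊤)) (w : Γ(CohB1.tensorMod L N, ⊤)),
      Ξ.hom.app ⊤ (tmul (U := ⊤) (pullSec p (tmul a b)) (pullSec s w)) ∈ R := by
    intro a b w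
    refine ⟨(mapT (mA a) (mB b)).app ⊤ w, ?_⟩
    let φ₁ : CohB1.tensorMod L N ⟶ (pushforward s).obj (CohB1.tensorMod F G) := mapT (mA a) (mB b) ≫ lam s F G
    let φ₂ : CohB1.tensorMod L N ⟶ (pushforward s).obj (CohB1.tensorMod F G) :=
      mulBox (p := p) (s := s) (tmul a b) (CohB1.tensorMod L N) ≫ (pushforward s).map Ξ.hom
    have h12 : φ₁ = φ₂ := by
      refine hom_ext _ _ fun U l n => ?_
      have g1 : (mapT (mA a) (mB b)).app U (tmul l n) = tmul ((mA a).app U l) ((mB b).app U n) :=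
        Tens.mapT_tmul _ _ _ _
      have g2 := lam_tmul s (show Γ(F, s ⁻¹ᵁ U) from (mA a).app U l) (show Γ(G, s ⁻¹ᵁ U) from (mB b).app U n)
      exact ((congrArg (fun z => (lam s F G).app U z) g1).trans g2).trans (hΞ U a b l n).symm
    have h3 : φ₁.app ⊤ w = φ₂.app ⊤ w := by rw [h12]
    have h5 : TensLoc.res ((Scheme.Modules.pullback p).obj (CohB1.tensorMod A B))
        (le_top : s ⁻¹ᵁ ⊤ ≤ p ⁻¹ᵁ ⊤) (pullSec p (tmul a b)) = pullSec p (tmul a b) := TensLoc.res_self _ _ _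
    have h4 : φ₂.app ⊤ w = Ξ.hom.app ⊤ (tmul (U := ⊤) (pullSec p (tmul a b)) (pullSec s w)) := by
      exact congrArg (fun z : Γ((Scheme.Modules.pullback p).obj (CohB1.tensorMod A B), ⊤) =>
        Ξ.hom.app ⊤ (tmul (U := ⊤) z (pullSec s w))) h5
    exact h3.trans h4
  let ψ : Γ(CohB1.tensorMod A B, ⊤) →+ Γ(CohB1.tensorMod F G, ⊤) :=
    (gl Ξ.hom).comp (((tmulHom ((Scheme.Modules.pullback p).obj (CohB1.tensorMod A B))
      ((Scheme.Modules.pullback s).obj (CohB1.tensorMod L N)) ⊤).flip (pullSec s (w j))).toAddMonoidHom.comp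
        (show Γ(CohB1.tensorMod A B, ⊤) →+ Γ((Scheme.Modules.pullback p).obj (CohB1.tensorMod A B), ⊤) from
          ((pullbackPushforwardAdjunction p).unit.app (CohB1.tensorMod A B) |>.app ⊤).hom))
  have hψ : ∀ z : Γ(CohB1.tensorMod A B, ⊤),
      ψ z = Ξ.hom.app ⊤ (tmul (U := ⊤) (pullSec p z) (pullSec s (w j))) := fun z => rfl
  have h5 := map_mem ψ R (fun a b => by rw [hψ]; exact key a b (w j)) (hmul (c j))
  rw [hψ] at h5
  exact h5

/-- **The box case.** -/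
theorem lam_box [IsProper q₀] (H : IsPullback p s q₀ q') {A B : X₀.Modules} (hA : HasBases A)
    (hAB : Coh.IsCoh (CohB1.tensorMod A B)) {L N : J'.Modules}
    (hL : HasBases L) (hLN : HasBases (CohB1.tensorMod L N)) (hmul : MulSurj A B)
    (t : Γ(CohB1.tensorMod
      (CohB1.tensorMod ((Scheme.Modules.pullback p).obj A) ((Scheme.Modules.pullback s).obj L))
      (CohB1.tensorMod ((Scheme.Modules.pullback p).obj B) ((Scheme.Modules.pullback s).obj N)), ⊤)) :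
    ∃ z, (show Γ(CohB1.tensorMod
      (CohB1.tensorMod ((Scheme.Modules.pullback p).obj A) ((Scheme.Modules.pullback s).obj L))
      (CohB1.tensorMod ((Scheme.Modules.pullback p).obj B) ((Scheme.Modules.pullback s).obj N)), ⊤) from
        (lam s (CohB1.tensorMod ((Scheme.Modules.pullback p).obj A) ((Scheme.Modules.pullback s).obj L))
          (CohB1.tensorMod ((Scheme.Modules.pullback p).obj B) ((Scheme.Modules.pullback s).obj N))).app ⊤ z) = t := by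
  obtain ⟨Ξ, hΞ⟩ := exists_xi (p := p) (s := s) (B := B) hA (N := N) hL
  exact lam_box_aux H hAB hLN hmul (fun a => mulBox a L) (fun b => mulBox b N) Ξ hΞ t

end Box

end K139.PushMul
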